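import Groth.Agent.FpqcDesc.Local
import Groth.Agent.FppfSrc.Scheme

/-!
From a single covering morphism to locality at the source for precoverages.
-/

set_option autoImplicit false

universe u

open CategoryTheory CategoryTheory.Limits AlgebraicGeometry

namespace Groth.Agent.SrcLocalLib

/-- A covering by `Q` gives one surjective morphism in `Q`, factoring through the members. -/
theorem exists_single {Q : MorphismProperty Scheme.{u}} [IsZariskiLocalAtSource Q] {X : Scheme.{u}}
    {R : Presieve X} (hR : R ∈ Scheme.precoverage Q X) :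
    ∃ (U : X → Scheme.{u}) (g : ∀ x, U x ⟶ X), (∀ x, R (g x)) ∧ Surjective (Sigma.desc g) ∧
      Q (Sigma.desc g) := by
  obtain ⟨h1, h2⟩ := FpqcLocal.mem_precoverage_dest _ hR
  choose U g hg hx using h2
  refine ⟨U, g, hg, ⟨fun x => ?_⟩, IsZariskiLocalAtSource.sigmaDesc fun x => h1 (hg x)⟩
  obtain ⟨z, hz⟩ := hx x
  refine ⟨Sigma.ι U x z, ?_⟩
  rw [← Scheme.Hom.comp_apply, Sigma.ι_desc]
  exact hz

theorem isLocalAtSource {P Q : MorphismProperty Scheme.{u}} [IsZariskiLocalAtSource Q] [IsZariskiLocalAtSource P]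
    (hcomp : ∀ {X Y Z : Scheme.{u}} (g : X ⟶ Y) (f : Y ⟶ Z), Q g → P f → P (g ≫ f))
    (hdesc : ∀ {X Y Z : Scheme.{u}} (g : X ⟶ Y) (f : Y ⟶ Z), Q g → Surjective g → P (g ≫ f) → P f) :
    MorphismProperty.IsLocalAtSource P (Scheme.precoverage Q) where
  comp {_ _ _ _} hR {U} g hg hf := hcomp g _ ((FpqcLocal.mem_precoverage_dest _ hR).1 hg) hf
  of_forall_comp {X Y f R} hR h := by
    obtain ⟨U, g, hg, hs, hq⟩ := exists_single hR
    refine hdesc (Sigma.desc g) f hq hs ?_
    rw [IsZariskiLocalAtSource.iff_of_openCover (P := P) (sigmaOpenCover U)]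
    intro x
    show P (Sigma.ι U x ≫ Sigma.desc g ≫ f)
    rw [Sigma.ι_desc_assoc]
    exact h (hg x)

end Groth.Agent.SrcLocalLib
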